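import Cfsg.Agent.H697.Alm.Defs

/-!
# S4790, T19: the affine case (helper978)
-/

set_option autoImplicit false

namespace Cfsg.Agent.H978.Alm

open Subgroup Cfsg Cfsg.Agent.H697.Alm

universe u

variable {G : Type u} [Group G] [Finite G]

omit [Finite G] in
theorem kap_eq {p : ℕ} (h : ∀ g : G, ¬ p ^ 2 ∣ orderOf g) : kap p G = Nat.card (ConjClasses G) := by
  unfold kap
  refine Nat.card_congr (Equiv.subtypeUnivEquiv ?_)
  intro c
  obtain ⟨g, rfl⟩ := ConjClasses.exists_rep c
  exact ⟨g, rfl, h g⟩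

/-- classes inside and outside `N` -/
theorem card_add_le (N : Subgroup G) [N.Normal] {X : Type*} [Finite X] (f : X → ConjClasses G)
    (hf : Function.Injective f)
    (hN : ∀ x, ConjClasses.map (QuotientGroup.mk' N) (f x) = ConjClasses.mk 1) :
    Nat.card X + (Nat.card (ConjClasses (G ⧸ N)) - 1) ≤ Nat.card (ConjClasses G) := by
  classical
  have hs : Function.Surjective (ConjClasses.map (QuotientGroup.mk' N)) :=
    ConjClasses.map_surjective (QuotientGroup.mk'_surjective N)
  let g : {d : ConjClasses (G ⧸ N) // d ≠ ConjClasses.mk 1} → ConjClasses G := fun d => Function.surjInv hs d.1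
  have hg : ∀ d, ConjClasses.map (QuotientGroup.mk' N) (g d) = d.1 := fun d => Function.surjInv_eq hs d.1
  have hinj : Function.Injective (Sum.elim f g) := by
    rintro (x | x) (y | y) h
    · exact congrArg Sum.inl (hf h)
    · exfalso
      have h1 : f x = g y := h
      have h2 := hN x
      rw [h1, hg] at h2
      exact y.2 h2
    · exfalso
      have h1 : g x = f y := h
      have h2 := hN y
      rw [← h1, hg] at h2
      exact x.2 h2
    · have h1 : g x = g y := h
      have h2 := hg x
      rw [h1, hg] at h2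
      rw [Subtype.ext h2]
  have h1 := Nat.card_le_card_of_injective _ hinj
  rw [Nat.card_sum] at h1
  have h2 : Nat.card {d : ConjClasses (G ⧸ N) // d ≠ ConjClasses.mk 1} = Nat.card (ConjClasses (G ⧸ N)) - 1 := by
    have := Fintype.ofFinite (ConjClasses (G ⧸ N))
    rw [Nat.card_eq_fintype_card, Nat.card_eq_fintype_card]
    have h3 := Fintype.card_subtype_compl (fun d : ConjClasses (G ⧸ N) => d = ConjClasses.mk 1)
    rw [Fintype.card_subtype_eq] at h3
    exact h3
  rwa [h2] at h1

section

variable {p : ℕ} [hp : Fact p.Prime] (N : Subgroup G) [hNn : N.Normal]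

theorem exp_of_min (hN : IsPGroup p N) (hNc : ∀ x ∈ N, ∀ y ∈ N, x * y = y * x)
    (hmin : ∀ M : Subgroup G, M.Normal → M ≤ N → M = ⊥ ∨ M = N) (hN1 : N ≠ ⊥) : ∀ x ∈ N, x ^ p = 1 := by
  let M : Subgroup G :=
    { carrier := {x | x ∈ N ∧ x ^ p = 1}
      one_mem' := ⟨N.one_mem, one_pow _⟩
      mul_mem' := by
        rintro a b ⟨ha, ha'⟩ ⟨hb, hb'⟩
        refine ⟨N.mul_mem ha hb, ?_⟩
        rw [(show Commute a b from hNc a ha b hb).mul_pow, ha', hb', one_mul]
      inv_mem' := by
        rintro a ⟨ha, ha'⟩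
        exact ⟨N.inv_mem ha, by rw [inv_pow, ha', inv_one]⟩ }
  have hM : M.Normal := ⟨fun x hx g => ⟨hNn.conj_mem x hx.1 g, by rw [conj_pow, hx.2, mul_one, mul_inv_cancel]⟩⟩
  rcases hmin M hM (fun x hx => hx.1) with h | h
  · exfalso
    apply hN1
    rw [eq_bot_iff]
    have hd : p ∣ Nat.card N ∨ Nat.card N = 1 := by
      obtain ⟨n, hn⟩ := IsPGroup.iff_card.1 hN
      rcases Nat.eq_zero_or_pos n with h0 | h0
      · right; rw [hn, h0, pow_zero]
      · left; rw [hn]; exact dvd_pow_self p h0.ne'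
    rcases hd with hd | hd
    · obtain ⟨⟨x, hx⟩, ho⟩ := exists_prime_orderOf_dvd_card' (G := N) p hd
      rw [Subgroup.orderOf_mk] at ho
      have h1 : x ∈ M := ⟨hx, by rw [← ho, pow_orderOf_eq_one]⟩
      rw [h, mem_bot] at h1
      rw [h1, orderOf_one] at ho
      exact absurd ho hp.out.one_lt.ne
    · rw [card_eq_one.1 hd]
  · intro x hx
    rw [← h] at hx
    exact hx.2

theorem sq_not_dvd (hexp : ∀ x ∈ N, x ^ p = 1) (hcop : ¬ p ∣ N.index) (g : G) :
    ¬ p ^ 2 ∣ orderOf g := by
  intro hd
  obtain ⟨c, hc⟩ := hd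
  have hc0 : c ≠ 0 := by
    rintro rfl
    rw [mul_zero] at hc
    exact (orderOf_pos g).ne' hc
  have h1 : orderOf (g ^ c) = p ^ 2 := by
    rw [orderOf_pow_of_dvd hc0 (by rw [hc]; exact Dvd.intro_left _ rfl), hc, Nat.mul_div_cancel _ (Nat.pos_of_ne_zero hc0)]
  have h2 : g ^ c ∈ N := by
    rw [← QuotientGroup.eq_one_iff]
    have h3 : ((g ^ c : G) : G ⧸ N) ^ (p ^ 2) = 1 := by
      rw [← QuotientGroup.mk_pow, ← h1, pow_orderOf_eq_one, QuotientGroup.mk_one]
    have h4 : orderOf ((g ^ c : G) : G ⧸ N) ∣ p ^ 2 := orderOf_dvd_of_pow_eq_one h3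
    have h5 : orderOf ((g ^ c : G) : G ⧸ N) ∣ N.index := orderOf_dvd_natCard _
    have h6 : Nat.Coprime (p ^ 2) N.index := Nat.Coprime.pow_left _ ((Nat.Prime.coprime_iff_not_dvd hp.out).2 hcop)
    have h7 := Nat.dvd_gcd h4 h5
    rw [h6, Nat.dvd_one] at h7
    exact orderOf_eq_one_iff.1 h7
  have h3 := orderOf_dvd_of_pow_eq_one (hexp _ h2)
  rw [h1] at h3
  have h4 := Nat.le_of_dvd hp.out.pos h3
  have h5 := hp.out.one_lt
  nlinarith

end

/-- the affine case, from `lin_main` -/
theorem affine {p : ℕ} [Fact p.Prime] (h5 : 5 ≤ p)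
    (hlin : ∀ (D E : Type u) [Group D] [Finite D] [AddCommGroup E] [Finite E] [Nontrivial E] [DistribMulAction D E]
      [FaithfulSMul D E], (∀ e : E, p • e = 0) → ¬ p ∣ Nat.card D → IrrAct D E → Nat.card E ≠ p →
      4 * (p - 1) < (Nat.card (ConjClasses D) + orb D E) ^ 2)
    (N : Subgroup G) [N.Normal] (hN : IsPGroup p N) (hNc : ∀ x ∈ N, ∀ y ∈ N, x * y = y * x)
    (hmin : ∀ M : Subgroup G, M.Normal → M ≤ N → M = ⊥ ∨ M = N) (hN1 : N ≠ ⊥)
    (hcop : ¬ p ∣ N.index) (hcen : Subgroup.centralizer (N : Set G) = N) :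
    4 * (p - 1) ≤ kap p G ^ 2 ∧ (kap p G ^ 2 = 4 * (p - 1) → Ext p G) := by
  have hexp := exp_of_min N hN hNc hmin hN1
  rw [kap_eq (sq_not_dvd N hexp hcop)]
  let _ : CommGroup N := { (inferInstance : Group N) with mul_comm := fun a b => Subtype.ext (hNc a a.2 b b.2) }
  have htriv : ∀ x ∈ N, MulAut.conjNormal (H := N) x = 1 := by
    intro x hx
    ext y
    rw [MulAut.conjNormal_apply, hNc x hx y y.2, mul_inv_cancel_right]
    rfl
  let φ : G ⧸ N →* MulAut N := QuotientGroup.lift N MulAut.conjNormal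
    (fun x hx => by rw [MonoidHom.mem_ker]; exact htriv x hx)
  have hφ : ∀ (g : G) (x : N), ((φ (g : G ⧸ N) x : N) : G) = g * x * g⁻¹ := fun g x => MulAut.conjNormal_apply g x
  let act : DistribMulAction (G ⧸ N) (Additive N) :=
    { smul := fun g x => Additive.ofMul (φ g x.toMul)
      one_smul := fun x => by
        show Additive.ofMul (φ 1 x.toMul) = x
        rw [map_one]; rfl
      mul_smul := fun g h x => by
        show Additive.ofMul (φ (g * h) x.toMul) = Additive.ofMul (φ g (φ h x.toMul))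
        rw [map_mul]; rfl
      smul_zero := fun g => by
        show Additive.ofMul (φ g 1) = 0
        rw [map_one]; rfl
      smul_add := fun g x y => by
        show Additive.ofMul (φ g (x.toMul * y.toMul)) = Additive.ofMul (φ g x.toMul * φ g y.toMul)
        rw [map_mul] }
  have hsm : ∀ (g : G) (x : Additive N), ((((g : G ⧸ N) • x).toMul : N) : G) = g * (x.toMul : G) * g⁻¹ :=
    fun g x => hφ g x.toMul
  have hext : ∀ x y : Additive N, ((x.toMul : N) : G) = ((y.toMul : N) : G) → x = y :=
    fun x y h => Additive.toMul.injective (Subtype.ext h)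
  have hfaith : ∀ g : G ⧸ N, (∀ x : Additive N, g • x = x) → g = 1 := by
    intro g hg
    obtain ⟨g, rfl⟩ := QuotientGroup.mk'_surjective N g
    rw [QuotientGroup.mk'_apply, QuotientGroup.eq_one_iff, ← hcen, mem_centralizer_iff]
    intro v hv
    have h3 := congrArg (fun y : Additive N => ((y.toMul : N) : G)) (hg (Additive.ofMul ⟨v, hv⟩))
    have h4 : g * v * g⁻¹ = v := (hsm g (Additive.ofMul ⟨v, hv⟩)).symm.trans h3
    rw [mul_inv_eq_iff_eq_mul] at h4
    exact h4.symm
  have : FaithfulSMul (G ⧸ N) (Additive N) := ⟨fun {a b} h => by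
    have h1 := hfaith (b⁻¹ * a) (fun x => by rw [mul_smul, h x, inv_smul_smul])
    exact (inv_mul_eq_one.1 h1).symm⟩
  have : Nontrivial (Additive N) := by
    have : Nontrivial N := (nontrivial_iff_ne_bot N).2 hN1
    exact inferInstanceAs (Nontrivial N)
  -- classes
  let f : MulAction.orbitRel.Quotient (G ⧸ N) (Additive N) → ConjClasses G :=
    Quotient.lift (fun x : Additive N => ConjClasses.mk ((x.toMul : N) : G)) (by
      intro x y hxy
      obtain ⟨g, hg⟩ : x ∈ MulAction.orbit (G ⧸ N) y := hxy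
      obtain ⟨g, rfl⟩ := QuotientGroup.mk'_surjective N g
      have h1 := hsm g y
      have h2 : ((g : G ⧸ N) • y) = x := hg
      rw [h2] at h1
      exact (ConjClasses.mk_eq_mk_iff_isConj.2 (isConj_iff.2 ⟨g, h1.symm⟩)).symm)
  have hf : Function.Injective f := by
    intro a b
    obtain ⟨x, rfl⟩ := Quotient.exists_rep a
    obtain ⟨y, rfl⟩ := Quotient.exists_rep b
    intro hxy
    have h1 : ConjClasses.mk ((x.toMul : N) : G) = ConjClasses.mk ((y.toMul : N) : G) := hxy
    obtain ⟨g, hg⟩ := isConj_iff.1 (ConjClasses.mk_eq_mk_iff_isConj.1 h1)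
    symm
    apply Quotient.sound
    show y ∈ MulAction.orbit (G ⧸ N) x
    exact ⟨(g : G ⧸ N), hext _ _ ((hsm g x).trans hg)⟩
  have hfN : ∀ x, ConjClasses.map (QuotientGroup.mk' N) (f x) = ConjClasses.mk 1 := by
    intro x
    obtain ⟨x, rfl⟩ := Quotient.exists_rep x
    show ConjClasses.mk (QuotientGroup.mk' N ((x.toMul : N) : G)) = ConjClasses.mk 1
    congr 1
    rw [QuotientGroup.mk'_apply, QuotientGroup.eq_one_iff]
    exact x.toMul.2
  have key := card_add_le N f hf hfN
  have hk1 : 1 ≤ Nat.card (ConjClasses (G ⧸ N)) := Nat.card_pos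
  have hne : Nonempty (MulAction.orbitRel.Quotient (G ⧸ N) (Additive N)) := ⟨Quotient.mk _ 0⟩
  have ho1 : 1 ≤ Nat.card (MulAction.orbitRel.Quotient (G ⧸ N) (Additive N)) := Nat.card_pos
  have key' : Nat.card (ConjClasses (G ⧸ N)) + orb (G ⧸ N) (Additive N) ≤ Nat.card (ConjClasses G) := by
    unfold orb
    omega
  by_cases hcard : Nat.card N = p
  · have hpp : p.Prime := Fact.out
    have hcyc : IsCyclic N := isCyclic_of_prime_card hcard
    have hfp : Fact (Nat.card N).Prime := ⟨by rw [hcard]; exact hpp⟩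
    have hφi : Function.Injective φ := by
      rw [injective_iff_map_eq_one]
      intro g hg
      refine hfaith g (fun x => ?_)
      show Additive.ofMul (φ g x.toMul) = x
      rw [hg]; rfl
    have hDcyc : IsCyclic (G ⧸ N) := by
      refine isCyclic_of_injective ((IsCyclic.mulAutMulEquiv N).toMonoidHom.comp φ) ?_
      exact (IsCyclic.mulAutMulEquiv N).injective.comp hφi
    have hkD : Nat.card (G ⧸ N) ≤ Nat.card (ConjClasses (G ⧸ N)) := by
      refine Nat.card_le_card_of_injective ConjClasses.mk ?_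
      intro a b hab
      obtain ⟨c, hc⟩ := isConj_iff.1 (ConjClasses.mk_eq_mk_iff_isConj.1 hab)
      have h1 : c * a = a * c := hDcyc.isMulCommutative.is_comm.comm c a
      rw [h1, mul_inv_cancel_right] at hc
      exact hc
    have horb : p ≤ orb (G ⧸ N) (Additive N) * Nat.card (G ⧸ N) + 1 := by
      classical
      let S := {w : MulAction.orbitRel.Quotient (G ⧸ N) (Additive N) // w ≠ Quotient.mk _ 0}
      have hS : Nat.card S = orb (G ⧸ N) (Additive N) := by
        have := Fintype.ofFinite (MulAction.orbitRel.Quotient (G ⧸ N) (Additive N))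
        unfold orb
        rw [Nat.card_eq_fintype_card, Nat.card_eq_fintype_card]
        have h3 := Fintype.card_subtype_compl
          (fun w : MulAction.orbitRel.Quotient (G ⧸ N) (Additive N) => w = Quotient.mk _ 0)
        rw [Fintype.card_subtype_eq] at h3
        exact h3
      let F : Option (S × (G ⧸ N)) → Additive N := fun o => o.elim 0 (fun q => q.2 • Quotient.out q.1.1)
      have hF : Function.Surjective F := by
        intro x
        by_cases hx : (Quotient.mk _ x : MulAction.orbitRel.Quotient (G ⧸ N) (Additive N)) = Quotient.mk _ 0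
        · refine ⟨none, ?_⟩
          obtain ⟨g, hg⟩ : x ∈ MulAction.orbit (G ⧸ N) (0 : Additive N) := Quotient.exact hx
          have h1 : g • (0 : Additive N) = x := hg
          rw [smul_zero] at h1
          exact h1
        · obtain ⟨g, hg⟩ : x ∈ MulAction.orbit (G ⧸ N)
              (Quotient.out (Quotient.mk _ x : MulAction.orbitRel.Quotient (G ⧸ N) (Additive N))) :=
            Quotient.exact (Quotient.out_eq (Quotient.mk _ x : MulAction.orbitRel.Quotient (G ⧸ N) (Additive N))).symm
          exact ⟨some (⟨_, hx⟩, g), hg⟩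
      have h1 := Nat.card_le_card_of_surjective F hF
      rw [Finite.card_option, Nat.card_prod, hS] at h1
      have h2 : Nat.card (Additive N) = p := hcard
      rw [h2] at h1
      exact h1
    have hd1 : 1 ≤ Nat.card (G ⧸ N) := Nat.card_pos
    generalize hr : orb (G ⧸ N) (Additive N) = r at horb key'
    generalize hdd : Nat.card (G ⧸ N) = d at horb hkD hd1
    generalize hkk : Nat.card (ConjClasses G) = k at key' ⊢
    have hdr : d + r ≤ k := by omega
    have hsq : (d + r) ^ 2 ≤ k ^ 2 := Nat.pow_le_pow_left hdr 2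
    have h4 : 4 * (d * r) ≤ (d + r) ^ 2 := by
      zify
      nlinarith [sq_nonneg ((d : ℤ) - r)]
    have hpr : p - 1 ≤ d * r := by rw [mul_comm]; omega
    refine ⟨by omega, fun hk => ?_⟩
    have hdeq : d = r := by
      have h6 : (d + r) ^ 2 = 4 * (d * r) := by omega
      zify at h6 ⊢
      have h7 : ((d : ℤ) - r) ^ 2 = 0 := by nlinarith
      have h8 := pow_eq_zero_iff (two_ne_zero) |>.1 h7
      omega
    have hd2 : d ^ 2 = p - 1 := by
      subst hdeq
      have : 4 * (d * d) ≤ 4 * (p - 1) := by rw [← hk]; omega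
      rw [pow_two]
      omega
    have hco : Nat.Coprime (Nat.card N) N.index := by
      rw [hcard]
      exact (Nat.Prime.coprime_iff_not_dvd hpp).2 hcop
    obtain ⟨C, hC⟩ := exists_right_complement'_of_coprime hco
    have hCN : N ⊓ C = ⊥ := hC.disjoint.eq_bot
    have hCc : Nat.card C = d := by
      rw [← hdd]
      exact hC.symm.index_eq_card.symm
    have hCi : Function.Injective ((QuotientGroup.mk' N).comp C.subtype) := by
      rw [injective_iff_map_eq_one]
      intro x hx
      have h1 : (x : G) ∈ N := (QuotientGroup.eq_one_iff _).1 hx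
      have h2 : (x : G) ∈ N ⊓ C := ⟨h1, x.2⟩
      rw [hCN, mem_bot] at h2
      exact Subtype.ext h2
    refine ⟨d, 1, N, C, hd2, inferInstance, hcyc, by rw [pow_one, hcard], isCyclic_of_injective _ hCi, hCc, hCN, ?_, ?_⟩
    · rw [pow_one, ← hcard, ← hdd]
      exact (card_mul_index N).symm
    · intro h hh hh1 x hx hx1 hhx
      apply hh1
      have h1 : h ∈ centralizer (N : Set G) := by
        rw [mem_centralizer_iff]
        intro y hy
        have hxN : zpowers (⟨x, hx⟩ : N) = ⊤ :=
          zpowers_eq_top_of_prime_card hcard (fun h0 => hx1 (congrArg Subtype.val h0))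
        obtain ⟨i, hi⟩ : (⟨y, hy⟩ : N) ∈ zpowers (⟨x, hx⟩ : N) := by rw [hxN]; exact mem_top _
        have hi' : x ^ i = y := congrArg Subtype.val hi
        rw [← hi']
        have h2 : Commute h x := mul_inv_eq_iff_eq_mul.1 hhx
        exact (h2.zpow_right i).eq.symm
      rw [hcen] at h1
      have h2 : h ∈ N ⊓ C := ⟨h1, hh⟩
      rwa [hCN, mem_bot] at h2
  · have h1 := hlin (G ⧸ N) (Additive N) (fun e => by
        show Additive.ofMul (e.toMul ^ p) = 0
        have h2 : e.toMul ^ p = 1 := Subtype.ext (hexp _ e.toMul.2)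
        rw [h2]; rfl) hcop ?_ hcard
    · have h2 := Nat.pow_le_pow_left key' 2
      exact ⟨by omega, fun h => by omega⟩
    · intro W hW
      let M : Subgroup G := (AddSubgroup.toSubgroup' W).map N.subtype
      have hmem : ∀ x : G, x ∈ M ↔ ∃ h : x ∈ N, Additive.ofMul (⟨x, h⟩ : N) ∈ W := by
        intro x
        constructor
        · rintro ⟨y, hy, rfl⟩
          exact ⟨y.2, hy⟩
        · rintro ⟨h, h'⟩
          exact ⟨⟨x, h⟩, h', rfl⟩
      have hMn : M.Normal := by
        refine ⟨fun x hx g => ?_⟩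
        rw [hmem] at hx ⊢
        obtain ⟨h, h'⟩ := hx
        refine ⟨Normal.conj_mem inferInstance x h g, ?_⟩
        have h2 := hW (g : G ⧸ N) _ h'
        have h3 : ((g : G ⧸ N) • Additive.ofMul (⟨x, h⟩ : N)) =
            Additive.ofMul (⟨g * x * g⁻¹, Normal.conj_mem inferInstance x h g⟩ : N) := hext _ _ (hsm g _)
        rwa [h3] at h2
      rcases hmin M hMn (fun x hx => ((hmem x).1 hx).1) with h | h
      · left
        rw [eq_bot_iff]
        intro w hw
        have h2 : ((w.toMul : N) : G) ∈ M := (hmem _).2 ⟨w.toMul.2, hw⟩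
        rw [h, mem_bot] at h2
        exact hext _ _ h2
      · right
        rw [eq_top_iff]
        intro w _
        have h2 : ((w.toMul : N) : G) ∈ M := by rw [h]; exact w.toMul.2
        exact ((hmem _).1 h2).2

end Cfsg.Agent.H978.Alm
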